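import Mathlib

/-!
# Base change bookkeeping for "descends to a stage" rows (helper24)

From the output shape of the rows `S9187`, `S9192`, … (a stage `i'`, pullback squares over the
identity of `D.obj i`) deduce the property for the canonical pullbacks `pullback.snd fi (D.map _)`
at every later stage.
-/

set_option autoImplicit false
universe u
open CategoryTheory CategoryTheory.Limits AlgebraicGeometry

namespace Groth.Agent.H24.FEtLim

variable {I : Type u} [SmallCategory I] (D : I ⥤ Scheme.{u})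

theorem prop_snd_of_row (P : MorphismProperty Scheme.{u}) [P.IsStableUnderBaseChange]
    [P.RespectsIso] {i i' : I} (φ : i' ⟶ i) {Xi Xi' Yi' : Scheme.{u}} (fi : Xi ⟶ D.obj i)
    (fi' : Xi' ⟶ Yi') (gi' : Yi' ⟶ D.obj i') (pY : Yi' ⟶ D.obj i) (pX : Xi' ⟶ Xi)
    (hY : IsPullback pY gi' (𝟙 (D.obj i)) (D.map φ)) (hX : IsPullback pX fi' fi pY)
    (hP : P fi') {k : I} (b : k ⟶ i') : P (pullback.snd fi (D.map (b ≫ φ))) := by
  haveI : IsIso gi' := hY.isIso_snd_of_isIso
  have hbig : IsPullback pX (fi' ≫ gi') (fi ≫ 𝟙 _) (D.map φ) := hX.paste_vert hY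
  have hP' : P (fi' ≫ gi') := (P.cancel_right_of_respectsIso fi' gi').mpr hP
  let l : pullback fi (D.map (b ≫ φ)) ⟶ Xi' :=
    hbig.lift (pullback.fst _ _) (pullback.snd _ _ ≫ D.map b) (by
      rw [Category.comp_id, pullback.condition, Category.assoc, D.map_comp])
  have hl : l ≫ pX = pullback.fst _ _ := hbig.lift_fst _ _ _
  have hl' : l ≫ fi' ≫ gi' = pullback.snd _ _ ≫ D.map b := hbig.lift_snd _ _ _
  have hk : IsPullback (l ≫ pX) (pullback.snd fi (D.map (b ≫ φ))) (fi ≫ 𝟙 _)
      (D.map b ≫ D.map φ) := by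
    rw [hl, Category.comp_id, ← D.map_comp]
    exact IsPullback.of_hasPullback fi (D.map (b ≫ φ))
  have hleft : IsPullback l (pullback.snd fi (D.map (b ≫ φ))) (fi' ≫ gi') (D.map b) :=
    IsPullback.of_right hk hl' hbig
  exact P.of_isPullback hleft hP'

end Groth.Agent.H24.FEtLim
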